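import Cfsg.Agent.H6.Chain

set_option autoImplicit false
set_option maxRecDepth 100000
set_option Elab.async false

namespace Cfsg.H6.LR.A

noncomputable def get (_y : ℕ) : ℕ := (nat_lit 0x76aaaaaaaaaaaaaaaa9aaaaaaaa984aaaaaaa997699999999999999a999999998a59999999888876888888888888888888888a9088888886a69686564636261607677732777774367705a797875747372717076761266666611476614555555765555555555245555504559312313744444444764444444435444445044a763202633333333337633333342333273333357415512222222222227622225326173222220050440111111111111117611001261111116650536300000000000000007611000004500822142720)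

noncomputable def row (p : ℕ) : ℕ :=
  Nat.land (Nat.shiftRight (@Nat.rec (fun _ => ℕ) (nat_lit 0) (fun y _ => get y)
    (Nat.add (Nat.shiftRight p (nat_lit 6)) (nat_lit 1)))
    (Nat.mul (Nat.land p (nat_lit 63)) (nat_lit 148))) (nat_lit 5708990770823839524233143877797980545530986495)

noncomputable def img (x p : ℕ) : ℕ :=
  Nat.land (Nat.shiftRight (row p) (Nat.mul x (nat_lit 4))) (nat_lit 15)

def LS : List ℕ := [nat_lit 1, nat_lit 2, nat_lit 3, nat_lit 4, nat_lit 5, nat_lit 6, nat_lit 7, nat_lit 8, nat_lit 9, nat_lit 10, nat_lit 11, nat_lit 12, nat_lit 13, nat_lit 14, nat_lit 15, nat_lit 16, nat_lit 17, nat_lit 18, nat_lit 19, nat_lit 20, nat_lit 21, nat_lit 22, nat_lit 23, nat_lit 24, nat_lit 25, nat_lit 26, nat_lit 27, nat_lit 28, nat_lit 29, nat_lit 30, nat_lit 31, nat_lit 32, nat_lit 33, nat_lit 34, nat_lit 35, nat_lit 36, nat_lit 37]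

def EQS : List (List ℕ × List ℕ) := [([nat_lit 1, nat_lit 1], []), ([nat_lit 2, nat_lit 2], []), ([nat_lit 3, nat_lit 4], []), ([nat_lit 4, nat_lit 3], []), ([nat_lit 5, nat_lit 5], []), ([nat_lit 6, nat_lit 6], []), ([nat_lit 7, nat_lit 7], []), ([nat_lit 8, nat_lit 8], []), ([nat_lit 9, nat_lit 10], []), ([nat_lit 10, nat_lit 9], []), ([nat_lit 11, nat_lit 12], []), ([nat_lit 12, nat_lit 11], []), ([nat_lit 13, nat_lit 14], []), ([nat_lit 14, nat_lit 13], []), ([nat_lit 15, nat_lit 16], []), ([nat_lit 16, nat_lit 15], []), ([nat_lit 17, nat_lit 17], []), ([nat_lit 18, nat_lit 18], []), ([nat_lit 19, nat_lit 19], []), ([nat_lit 20, nat_lit 21], []), ([nat_lit 21, nat_lit 20], []), ([nat_lit 22, nat_lit 23], []), ([nat_lit 23, nat_lit 22], []), ([nat_lit 24, nat_lit 25], []), ([nat_lit 25, nat_lit 24], []), ([nat_lit 26, nat_lit 27], []), ([nat_lit 27, nat_lit 26], []), ([nat_lit 28, nat_lit 29], []), ([nat_lit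 29, nat_lit 28], []), ([nat_lit 30, nat_lit 31], []), ([nat_lit 31, nat_lit 30], []), ([nat_lit 32, nat_lit 33], []), ([nat_lit 33, nat_lit 32], []), ([nat_lit 34, nat_lit 35], []), ([nat_lit 35, nat_lit 34], []), ([nat_lit 36, nat_lit 37], []), ([nat_lit 37, nat_lit 36], []), ([nat_lit 20, nat_lit 20], [nat_lit 21]), ([nat_lit 22, nat_lit 22], [nat_lit 23]), ([nat_lit 24, nat_lit 24], [nat_lit 25]), ([nat_lit 26, nat_lit 26], [nat_lit 27]), ([nat_lit 28, nat_lit 28], [nat_lit 29]), ([nat_lit 30, nat_lit 30], [nat_lit 31]), ([nat_lit 32, nat_lit 32], [nat_lit 33]), ([nat_lit 34, nat_lit 34], [nat_lit 35]), ([nat_lit 36, nat_lit 36], [nat_lit 37]), ([nat_lit 22, nat_lit 20, nat_lit 22], [nat_lit 17, nat_lit 21]), ([nat_lit 24, nat_lit 20, nat_lit 24], [nat_lit 17, nat_lit 21]), ([nat_lit 24, nat_lit 22, nat_lit 24], [nat_lit 17, nat_lit 23]), ([nat_lit 26, nat_lit 20, nat_lit 26], [nat_lit 17, nat_lit 21]), ([nat_lit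 26, nat_lit 22, nat_lit 26], [nat_lit 17, nat_lit 23]), ([nat_lit 26, nat_lit 24, nat_lit 26], [nat_lit 17, nat_lit 25]), ([nat_lit 28, nat_lit 20, nat_lit 28], [nat_lit 17, nat_lit 21]), ([nat_lit 28, nat_lit 22, nat_lit 28], [nat_lit 17, nat_lit 23]), ([nat_lit 28, nat_lit 24, nat_lit 28], [nat_lit 17, nat_lit 25]), ([nat_lit 28, nat_lit 26, nat_lit 28], [nat_lit 17, nat_lit 27]), ([nat_lit 30, nat_lit 20, nat_lit 30], [nat_lit 17, nat_lit 21]), ([nat_lit 30, nat_lit 22, nat_lit 30], [nat_lit 17, nat_lit 23]), ([nat_lit 30, nat_lit 24, nat_lit 30], [nat_lit 17, nat_lit 25]), ([nat_lit 30, nat_lit 26, nat_lit 30], [nat_lit 17, nat_lit 27]), ([nat_lit 30, nat_lit 28, nat_lit 30], [nat_lit 17, nat_lit 29]), ([nat_lit 32, nat_lit 20, nat_lit 32], [nat_lit 17, nat_lit 21]), ([nat_lit 32, nat_lit 22, nat_lit 32], [nat_lit 17, nat_lit 23]), ([nat_lit 32, nat_lit 24, nat_lit 32], [nat_lit 17, nat_lit 25]), ([nat_lit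 32, nat_lit 26, nat_lit 32], [nat_lit 17, nat_lit 27]), ([nat_lit 32, nat_lit 28, nat_lit 32], [nat_lit 17, nat_lit 29]), ([nat_lit 32, nat_lit 30, nat_lit 32], [nat_lit 17, nat_lit 31]), ([nat_lit 34, nat_lit 20, nat_lit 34], [nat_lit 17, nat_lit 21]), ([nat_lit 34, nat_lit 22, nat_lit 34], [nat_lit 17, nat_lit 23]), ([nat_lit 34, nat_lit 24, nat_lit 34], [nat_lit 17, nat_lit 25]), ([nat_lit 34, nat_lit 26, nat_lit 34], [nat_lit 17, nat_lit 27]), ([nat_lit 34, nat_lit 28, nat_lit 34], [nat_lit 17, nat_lit 29]), ([nat_lit 34, nat_lit 30, nat_lit 34], [nat_lit 17, nat_lit 31]), ([nat_lit 34, nat_lit 32, nat_lit 34], [nat_lit 17, nat_lit 33]), ([nat_lit 36, nat_lit 20, nat_lit 36], [nat_lit 17, nat_lit 21]), ([nat_lit 36, nat_lit 22, nat_lit 36], [nat_lit 17, nat_lit 23]), ([nat_lit 36, nat_lit 24, nat_lit 36], [nat_lit 17, nat_lit 25]), ([nat_lit 36, nat_lit 26, nat_lit 36], [nat_lit 17, nat_lit 27]), ([nat_lit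 36, nat_lit 28, nat_lit 36], [nat_lit 17, nat_lit 29]), ([nat_lit 36, nat_lit 30, nat_lit 36], [nat_lit 17, nat_lit 31]), ([nat_lit 36, nat_lit 32, nat_lit 36], [nat_lit 17, nat_lit 33]), ([nat_lit 36, nat_lit 34, nat_lit 36], [nat_lit 17, nat_lit 35]), ([nat_lit 20, nat_lit 17], [nat_lit 17, nat_lit 20]), ([nat_lit 22, nat_lit 17], [nat_lit 17, nat_lit 22]), ([nat_lit 24, nat_lit 17], [nat_lit 17, nat_lit 24]), ([nat_lit 26, nat_lit 17], [nat_lit 17, nat_lit 26]), ([nat_lit 28, nat_lit 17], [nat_lit 17, nat_lit 28]), ([nat_lit 30, nat_lit 17], [nat_lit 17, nat_lit 30]), ([nat_lit 32, nat_lit 17], [nat_lit 17, nat_lit 32]), ([nat_lit 34, nat_lit 17], [nat_lit 17, nat_lit 34]), ([nat_lit 36, nat_lit 17], [nat_lit 17, nat_lit 36]), ([nat_lit 1, nat_lit 20, nat_lit 22, nat_lit 24, nat_lit 21], [nat_lit 17, nat_lit 30, nat_lit 28, nat_lit 23, nat_lit 26]), ([nat_lit 2, nat_lit 20, nat_lit 22, nat_lit 24, nat_lit 26],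 [nat_lit 17, nat_lit 27, nat_lit 30, nat_lit 24, nat_lit 29]), ([nat_lit 4, nat_lit 20, nat_lit 22, nat_lit 24, nat_lit 26], [nat_lit 17, nat_lit 23, nat_lit 30, nat_lit 20, nat_lit 29]), ([nat_lit 5, nat_lit 20, nat_lit 24, nat_lit 22, nat_lit 26], [nat_lit 24, nat_lit 31, nat_lit 26, nat_lit 29, nat_lit 21]), ([nat_lit 6, nat_lit 20, nat_lit 22, nat_lit 24, nat_lit 30], [nat_lit 29, nat_lit 27, nat_lit 23, nat_lit 21]), ([nat_lit 7, nat_lit 20, nat_lit 22, nat_lit 24, nat_lit 26], [nat_lit 28, nat_lit 26, nat_lit 31, nat_lit 21]), ([nat_lit 8, nat_lit 20, nat_lit 22, nat_lit 29, nat_lit 33, nat_lit 20], [nat_lit 29, nat_lit 36, nat_lit 31, nat_lit 34, nat_lit 31]), ([nat_lit 10, nat_lit 32, nat_lit 35], [nat_lit 17, nat_lit 32, nat_lit 37]), ([nat_lit 12, nat_lit 20, nat_lit 31], [nat_lit 17, nat_lit 20, nat_lit 29]), ([nat_lit 14, nat_lit 24], [nat_lit 17, nat_lit 26]), ([nat_lit 16, nat_lit 25], [nat_lit 17,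 nat_lit 23]), ([nat_lit 18, nat_lit 20, nat_lit 23, nat_lit 20, nat_lit 24], [nat_lit 29, nat_lit 30, nat_lit 29, nat_lit 25, nat_lit 26]), ([nat_lit 19, nat_lit 20, nat_lit 23, nat_lit 20, nat_lit 24, nat_lit 26, nat_lit 29], [nat_lit 35, nat_lit 36, nat_lit 35, nat_lit 24, nat_lit 31, nat_lit 27])]

def D : List (ℕ × List ℕ) := []

noncomputable def ptU (img : ℕ → ℕ → ℕ) (p : ℕ) : Bool := Nat.beq (Nat.lor (Nat.xor (img (nat_lit 1) (img (nat_lit 1) p)) p)
  (Nat.lor (Nat.xor (img (nat_lit 2) (img (nat_lit 2) p)) p)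
  (Nat.lor (Nat.xor (img (nat_lit 4) (img (nat_lit 3) p)) p)
  (Nat.lor (Nat.xor (img (nat_lit 3) (img (nat_lit 4) p)) p)
  (Nat.lor (Nat.xor (img (nat_lit 5) (img (nat_lit 5) p)) p)
  (Nat.lor (Nat.xor (img (nat_lit 6) (img (nat_lit 6) p)) p)
  (Nat.lor (Nat.xor (img (nat_lit 7) (img (nat_lit 7) p)) p)
  (Nat.lor (Nat.xor (img (nat_lit 8) (img (nat_lit 8) p)) p)
  (Nat.lor (Nat.xor (img (nat_lit 10) (img (nat_lit 9) p)) p)
  (Nat.lor (Nat.xor (img (nat_lit 9) (img (nat_lit 10) p)) p)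
  (Nat.lor (Nat.xor (img (nat_lit 12) (img (nat_lit 11) p)) p)
  (Nat.lor (Nat.xor (img (nat_lit 11) (img (nat_lit 12) p)) p)
  (Nat.lor (Nat.xor (img (nat_lit 14) (img (nat_lit 13) p)) p)
  (Nat.lor (Nat.xor (img (nat_lit 13) (img (nat_lit 14) p)) p)
  (Nat.lor (Nat.xor (img (nat_lit 16) (img (nat_lit 15) p)) p)
  (Nat.lor (Nat.xor (img (nat_lit 15) (img (nat_lit 16) p)) p)
  (Nat.lor (Nat.xor (img (nat_lit 17) (img (nat_lit 17) p)) p)
  (Nat.lor (Nat.xor (img (nat_lit 18) (img (nat_lit 18) p)) p)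
  (Nat.lor (Nat.xor (img (nat_lit 19) (img (nat_lit 19) p)) p)
  (Nat.lor (Nat.xor (img (nat_lit 21) (img (nat_lit 20) p)) p)
  (Nat.lor (Nat.xor (img (nat_lit 20) (img (nat_lit 21) p)) p)
  (Nat.lor (Nat.xor (img (nat_lit 23) (img (nat_lit 22) p)) p)
  (Nat.lor (Nat.xor (img (nat_lit 22) (img (nat_lit 23) p)) p)
  (Nat.lor (Nat.xor (img (nat_lit 25) (img (nat_lit 24) p)) p)
  (Nat.lor (Nat.xor (img (nat_lit 24) (img (nat_lit 25) p)) p)
  (Nat.lor (Nat.xor (img (nat_lit 27) (img (nat_lit 26) p)) p)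
  (Nat.lor (Nat.xor (img (nat_lit 26) (img (nat_lit 27) p)) p)
  (Nat.lor (Nat.xor (img (nat_lit 29) (img (nat_lit 28) p)) p)
  (Nat.lor (Nat.xor (img (nat_lit 28) (img (nat_lit 29) p)) p)
  (Nat.lor (Nat.xor (img (nat_lit 31) (img (nat_lit 30) p)) p)
  (Nat.lor (Nat.xor (img (nat_lit 30) (img (nat_lit 31) p)) p)
  (Nat.lor (Nat.xor (img (nat_lit 33) (img (nat_lit 32) p)) p)
  (Nat.lor (Nat.xor (img (nat_lit 32) (img (nat_lit 33) p)) p)
  (Nat.lor (Nat.xor (img (nat_lit 35) (img (nat_lit 34) p)) p)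
  (Nat.lor (Nat.xor (img (nat_lit 34) (img (nat_lit 35) p)) p)
  (Nat.lor (Nat.xor (img (nat_lit 37) (img (nat_lit 36) p)) p)
  (Nat.lor (Nat.xor (img (nat_lit 36) (img (nat_lit 37) p)) p)
  (Nat.lor (Nat.xor (img (nat_lit 20) (img (nat_lit 20) p)) (img (nat_lit 21) p))
  (Nat.lor (Nat.xor (img (nat_lit 22) (img (nat_lit 22) p)) (img (nat_lit 23) p))
  (Nat.lor (Nat.xor (img (nat_lit 24) (img (nat_lit 24) p)) (img (nat_lit 25) p))
  (Nat.lor (Nat.xor (img (nat_lit 26) (img (nat_lit 26) p)) (img (nat_lit 27) p))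
  (Nat.lor (Nat.xor (img (nat_lit 28) (img (nat_lit 28) p)) (img (nat_lit 29) p))
  (Nat.lor (Nat.xor (img (nat_lit 30) (img (nat_lit 30) p)) (img (nat_lit 31) p))
  (Nat.lor (Nat.xor (img (nat_lit 32) (img (nat_lit 32) p)) (img (nat_lit 33) p))
  (Nat.lor (Nat.xor (img (nat_lit 34) (img (nat_lit 34) p)) (img (nat_lit 35) p))
  (Nat.lor (Nat.xor (img (nat_lit 36) (img (nat_lit 36) p)) (img (nat_lit 37) p))
  (Nat.lor (Nat.xor (img (nat_lit 22) (img (nat_lit 20) (img (nat_lit 22) p))) (img (nat_lit 21) (img (nat_lit 17) p)))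
  (Nat.lor (Nat.xor (img (nat_lit 24) (img (nat_lit 20) (img (nat_lit 24) p))) (img (nat_lit 21) (img (nat_lit 17) p)))
  (Nat.lor (Nat.xor (img (nat_lit 24) (img (nat_lit 22) (img (nat_lit 24) p))) (img (nat_lit 23) (img (nat_lit 17) p)))
  (Nat.lor (Nat.xor (img (nat_lit 26) (img (nat_lit 20) (img (nat_lit 26) p))) (img (nat_lit 21) (img (nat_lit 17) p)))
  (Nat.lor (Nat.xor (img (nat_lit 26) (img (nat_lit 22) (img (nat_lit 26) p))) (img (nat_lit 23) (img (nat_lit 17) p)))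
  (Nat.lor (Nat.xor (img (nat_lit 26) (img (nat_lit 24) (img (nat_lit 26) p))) (img (nat_lit 25) (img (nat_lit 17) p)))
  (Nat.lor (Nat.xor (img (nat_lit 28) (img (nat_lit 20) (img (nat_lit 28) p))) (img (nat_lit 21) (img (nat_lit 17) p)))
  (Nat.lor (Nat.xor (img (nat_lit 28) (img (nat_lit 22) (img (nat_lit 28) p))) (img (nat_lit 23) (img (nat_lit 17) p)))
  (Nat.lor (Nat.xor (img (nat_lit 28) (img (nat_lit 24) (img (nat_lit 28) p))) (img (nat_lit 25) (img (nat_lit 17) p)))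
  (Nat.lor (Nat.xor (img (nat_lit 28) (img (nat_lit 26) (img (nat_lit 28) p))) (img (nat_lit 27) (img (nat_lit 17) p)))
  (Nat.lor (Nat.xor (img (nat_lit 30) (img (nat_lit 20) (img (nat_lit 30) p))) (img (nat_lit 21) (img (nat_lit 17) p)))
  (Nat.lor (Nat.xor (img (nat_lit 30) (img (nat_lit 22) (img (nat_lit 30) p))) (img (nat_lit 23) (img (nat_lit 17) p)))
  (Nat.lor (Nat.xor (img (nat_lit 30) (img (nat_lit 24) (img (nat_lit 30) p))) (img (nat_lit 25) (img (nat_lit 17) p)))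
  (Nat.lor (Nat.xor (img (nat_lit 30) (img (nat_lit 26) (img (nat_lit 30) p))) (img (nat_lit 27) (img (nat_lit 17) p)))
  (Nat.lor (Nat.xor (img (nat_lit 30) (img (nat_lit 28) (img (nat_lit 30) p))) (img (nat_lit 29) (img (nat_lit 17) p)))
  (Nat.lor (Nat.xor (img (nat_lit 32) (img (nat_lit 20) (img (nat_lit 32) p))) (img (nat_lit 21) (img (nat_lit 17) p)))
  (Nat.lor (Nat.xor (img (nat_lit 32) (img (nat_lit 22) (img (nat_lit 32) p))) (img (nat_lit 23) (img (nat_lit 17) p)))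
  (Nat.lor (Nat.xor (img (nat_lit 32) (img (nat_lit 24) (img (nat_lit 32) p))) (img (nat_lit 25) (img (nat_lit 17) p)))
  (Nat.lor (Nat.xor (img (nat_lit 32) (img (nat_lit 26) (img (nat_lit 32) p))) (img (nat_lit 27) (img (nat_lit 17) p)))
  (Nat.lor (Nat.xor (img (nat_lit 32) (img (nat_lit 28) (img (nat_lit 32) p))) (img (nat_lit 29) (img (nat_lit 17) p)))
  (Nat.lor (Nat.xor (img (nat_lit 32) (img (nat_lit 30) (img (nat_lit 32) p))) (img (nat_lit 31) (img (nat_lit 17) p)))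
  (Nat.lor (Nat.xor (img (nat_lit 34) (img (nat_lit 20) (img (nat_lit 34) p))) (img (nat_lit 21) (img (nat_lit 17) p)))
  (Nat.lor (Nat.xor (img (nat_lit 34) (img (nat_lit 22) (img (nat_lit 34) p))) (img (nat_lit 23) (img (nat_lit 17) p)))
  (Nat.lor (Nat.xor (img (nat_lit 34) (img (nat_lit 24) (img (nat_lit 34) p))) (img (nat_lit 25) (img (nat_lit 17) p)))
  (Nat.lor (Nat.xor (img (nat_lit 34) (img (nat_lit 26) (img (nat_lit 34) p))) (img (nat_lit 27) (img (nat_lit 17) p)))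
  (Nat.lor (Nat.xor (img (nat_lit 34) (img (nat_lit 28) (img (nat_lit 34) p))) (img (nat_lit 29) (img (nat_lit 17) p)))
  (Nat.lor (Nat.xor (img (nat_lit 34) (img (nat_lit 30) (img (nat_lit 34) p))) (img (nat_lit 31) (img (nat_lit 17) p)))
  (Nat.lor (Nat.xor (img (nat_lit 34) (img (nat_lit 32) (img (nat_lit 34) p))) (img (nat_lit 33) (img (nat_lit 17) p)))
  (Nat.lor (Nat.xor (img (nat_lit 36) (img (nat_lit 20) (img (nat_lit 36) p))) (img (nat_lit 21) (img (nat_lit 17) p)))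
  (Nat.lor (Nat.xor (img (nat_lit 36) (img (nat_lit 22) (img (nat_lit 36) p))) (img (nat_lit 23) (img (nat_lit 17) p)))
  (Nat.lor (Nat.xor (img (nat_lit 36) (img (nat_lit 24) (img (nat_lit 36) p))) (img (nat_lit 25) (img (nat_lit 17) p)))
  (Nat.lor (Nat.xor (img (nat_lit 36) (img (nat_lit 26) (img (nat_lit 36) p))) (img (nat_lit 27) (img (nat_lit 17) p)))
  (Nat.lor (Nat.xor (img (nat_lit 36) (img (nat_lit 28) (img (nat_lit 36) p))) (img (nat_lit 29) (img (nat_lit 17) p)))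
  (Nat.lor (Nat.xor (img (nat_lit 36) (img (nat_lit 30) (img (nat_lit 36) p))) (img (nat_lit 31) (img (nat_lit 17) p)))
  (Nat.lor (Nat.xor (img (nat_lit 36) (img (nat_lit 32) (img (nat_lit 36) p))) (img (nat_lit 33) (img (nat_lit 17) p)))
  (Nat.lor (Nat.xor (img (nat_lit 36) (img (nat_lit 34) (img (nat_lit 36) p))) (img (nat_lit 35) (img (nat_lit 17) p)))
  (Nat.lor (Nat.xor (img (nat_lit 17) (img (nat_lit 20) p)) (img (nat_lit 20) (img (nat_lit 17) p)))
  (Nat.lor (Nat.xor (img (nat_lit 17) (img (nat_lit 22) p)) (img (nat_lit 22) (img (nat_lit 17) p)))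
  (Nat.lor (Nat.xor (img (nat_lit 17) (img (nat_lit 24) p)) (img (nat_lit 24) (img (nat_lit 17) p)))
  (Nat.lor (Nat.xor (img (nat_lit 17) (img (nat_lit 26) p)) (img (nat_lit 26) (img (nat_lit 17) p)))
  (Nat.lor (Nat.xor (img (nat_lit 17) (img (nat_lit 28) p)) (img (nat_lit 28) (img (nat_lit 17) p)))
  (Nat.lor (Nat.xor (img (nat_lit 17) (img (nat_lit 30) p)) (img (nat_lit 30) (img (nat_lit 17) p)))
  (Nat.lor (Nat.xor (img (nat_lit 17) (img (nat_lit 32) p)) (img (nat_lit 32) (img (nat_lit 17) p)))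
  (Nat.lor (Nat.xor (img (nat_lit 17) (img (nat_lit 34) p)) (img (nat_lit 34) (img (nat_lit 17) p)))
  (Nat.lor (Nat.xor (img (nat_lit 17) (img (nat_lit 36) p)) (img (nat_lit 36) (img (nat_lit 17) p)))
  (Nat.lor (Nat.xor (img (nat_lit 21) (img (nat_lit 24) (img (nat_lit 22) (img (nat_lit 20) (img (nat_lit 1) p))))) (img (nat_lit 26) (img (nat_lit 23) (img (nat_lit 28) (img (nat_lit 30) (img (nat_lit 17) p))))))
  (Nat.lor (Nat.xor (img (nat_lit 26) (img (nat_lit 24) (img (nat_lit 22) (img (nat_lit 20) (img (nat_lit 2) p))))) (img (nat_lit 29) (img (nat_lit 24) (img (nat_lit 30) (img (nat_lit 27) (img (nat_lit 17) p))))))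
  (Nat.lor (Nat.xor (img (nat_lit 26) (img (nat_lit 24) (img (nat_lit 22) (img (nat_lit 20) (img (nat_lit 4) p))))) (img (nat_lit 29) (img (nat_lit 20) (img (nat_lit 30) (img (nat_lit 23) (img (nat_lit 17) p))))))
  (Nat.lor (Nat.xor (img (nat_lit 26) (img (nat_lit 22) (img (nat_lit 24) (img (nat_lit 20) (img (nat_lit 5) p))))) (img (nat_lit 21) (img (nat_lit 29) (img (nat_lit 26) (img (nat_lit 31) (img (nat_lit 24) p))))))
  (Nat.lor (Nat.xor (img (nat_lit 30) (img (nat_lit 24) (img (nat_lit 22) (img (nat_lit 20) (img (nat_lit 6) p))))) (img (nat_lit 21) (img (nat_lit 23) (img (nat_lit 27) (img (nat_lit 29) p)))))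
  (Nat.lor (Nat.xor (img (nat_lit 26) (img (nat_lit 24) (img (nat_lit 22) (img (nat_lit 20) (img (nat_lit 7) p))))) (img (nat_lit 21) (img (nat_lit 31) (img (nat_lit 26) (img (nat_lit 28) p)))))
  (Nat.lor (Nat.xor (img (nat_lit 20) (img (nat_lit 33) (img (nat_lit 29) (img (nat_lit 22) (img (nat_lit 20) (img (nat_lit 8) p)))))) (img (nat_lit 31) (img (nat_lit 34) (img (nat_lit 31) (img (nat_lit 36) (img (nat_lit 29) p))))))
  (Nat.lor (Nat.xor (img (nat_lit 35) (img (nat_lit 32) (img (nat_lit 10) p))) (img (nat_lit 37) (img (nat_lit 32) (img (nat_lit 17) p))))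
  (Nat.lor (Nat.xor (img (nat_lit 31) (img (nat_lit 20) (img (nat_lit 12) p))) (img (nat_lit 29) (img (nat_lit 20) (img (nat_lit 17) p))))
  (Nat.lor (Nat.xor (img (nat_lit 24) (img (nat_lit 14) p)) (img (nat_lit 26) (img (nat_lit 17) p)))
  (Nat.lor (Nat.xor (img (nat_lit 25) (img (nat_lit 16) p)) (img (nat_lit 23) (img (nat_lit 17) p)))
  (Nat.lor (Nat.xor (img (nat_lit 24) (img (nat_lit 20) (img (nat_lit 23) (img (nat_lit 20) (img (nat_lit 18) p))))) (img (nat_lit 26) (img (nat_lit 25) (img (nat_lit 29) (img (nat_lit 30) (img (nat_lit 29) p))))))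
  (Nat.lor (Nat.xor (img (nat_lit 29) (img (nat_lit 26) (img (nat_lit 24) (img (nat_lit 20) (img (nat_lit 23) (img (nat_lit 20) (img (nat_lit 19) p))))))) (img (nat_lit 27) (img (nat_lit 31) (img (nat_lit 24) (img (nat_lit 35) (img (nat_lit 36) (img (nat_lit 35) p)))))))
  (Nat.lor (Nat.div (img (nat_lit 1) p) (nat_lit 11)) (Nat.lor (Nat.div (img (nat_lit 2) p) (nat_lit 11)) (Nat.lor (Nat.div (img (nat_lit 3) p) (nat_lit 11)) (Nat.lor (Nat.div (img (nat_lit 4) p) (nat_lit 11)) (Nat.lor (Nat.div (img (nat_lit 5) p) (nat_lit 11)) (Nat.lor (Nat.div (img (nat_lit 6) p) (nat_lit 11)) (Nat.lor (Nat.div (img (nat_lit 7) p) (nat_lit 11)) (Nat.lor (Nat.div (img (nat_lit 8) p) (nat_lit 11)) (Nat.lor (Nat.div (img (nat_lit 9) p) (nat_lit 11)) (Nat.lor (Nat.div (img (nat_lit 10) p) (nat_lit 11)) (Nat.lor (Nat.div (img (nat_lit 11) p) (nat_lit 11)) (Nat.lor (Nat.div (img (nat_lit 12) p) (nat_lit 11)) (Nat.lor (Nat.div (img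 (nat_lit 13) p) (nat_lit 11)) (Nat.lor (Nat.div (img (nat_lit 14) p) (nat_lit 11)) (Nat.lor (Nat.div (img (nat_lit 15) p) (nat_lit 11)) (Nat.lor (Nat.div (img (nat_lit 16) p) (nat_lit 11)) (Nat.lor (Nat.div (img (nat_lit 17) p) (nat_lit 11)) (Nat.lor (Nat.div (img (nat_lit 18) p) (nat_lit 11)) (Nat.lor (Nat.div (img (nat_lit 19) p) (nat_lit 11)) (Nat.lor (Nat.div (img (nat_lit 20) p) (nat_lit 11)) (Nat.lor (Nat.div (img (nat_lit 21) p) (nat_lit 11)) (Nat.lor (Nat.div (img (nat_lit 22) p) (nat_lit 11)) (Nat.lor (Nat.div (img (nat_lit 23) p) (nat_lit 11)) (Nat.lor (Nat.div (img (nat_lit 24) p) (nat_lit 11)) (Nat.lor (Nat.div (img (nat_lit 25) p) (nat_lit 11)) (Nat.lor (Nat.div (img (nat_lit 26) p) (nat_lit 11)) (Nat.lor (Nat.div (img (nat_lit 27) p) (nat_lit 11)) (Nat.lor (Nat.div (img (nat_lit 28) p) (nat_lit 11)) (Nat.lor (Nat.div (img (nat_lit 29) p) (nat_lit 11)) (Nat.lor (Nat.div (img (nat_lit 30) p) (nat_lit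 11)) (Nat.lor (Nat.div (img (nat_lit 31) p) (nat_lit 11)) (Nat.lor (Nat.div (img (nat_lit 32) p) (nat_lit 11)) (Nat.lor (Nat.div (img (nat_lit 33) p) (nat_lit 11)) (Nat.lor (Nat.div (img (nat_lit 34) p) (nat_lit 11)) (Nat.lor (Nat.div (img (nat_lit 35) p) (nat_lit 11)) (Nat.lor (Nat.div (img (nat_lit 36) p) (nat_lit 11)) (Nat.lor (Nat.div (img (nat_lit 37) p) (nat_lit 11)) (nat_lit 0)))))))))))))))))))))))))))))))))))))))))))))))))))))))))))))))))))))))))))))))))))))))))))))))))))))))))))))))))))))))))))))))))))))))))))))) (nat_lit 0)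

theorem ptU_eq (img : ℕ → ℕ → ℕ) (p : ℕ) : ptU img p = chkPt img (nat_lit 11) LS EQS p := rfl

end Cfsg.H6.LR.A
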